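import Groth.Agent.UHEndoLib.Finite
import Groth.Agent.AffLim.DescendMore
import Groth.Agent.FPModelLib.Model2
import Groth.Agent.FPModelLib.ZSys

/-!
# Universally injective endomorphisms of finitely presented schemes are finite and surjective
-/

set_option autoImplicit false
set_option backward.isDefEq.respectTransparency false
set_option backward.defeqAttrib.useBackward true
set_option linter.style.haveILetI false

universe u

open CategoryTheory CategoryTheory.Limits AlgebraicGeometry

namespace Groth.Agent.UHEndoLib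

/-- The affine base case. -/
theorem finite_surjective_affine {A : CommRingCat.{u}} {X : Scheme.{u}} (f : X ⟶ Spec A)
    [LocallyOfFinitePresentation f] [QuasiCompact f] [QuasiSeparated f]
    (g : X ⟶ X) (hg : g ≫ f = f) [UniversallyInjective g] : IsFinite g ∧ Surjective g := by
  haveI : CompactSpace X := QuasiCompact.compactSpace_of_compactSpace f
  haveI : QuasiSeparatedSpace X := quasiSeparatedSpace_of_quasiSeparated f
  let D := FPModelLib.zSys A
  let c := FPModelLib.zCone A
  have hc : IsLimit c := FPModelLib.isLimitZCone A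
  haveI : ∀ i, CompactSpace (D.obj i) := fun i => inferInstance
  obtain ⟨i, G, g₀, q, hm⟩ := FPModelLib.Gen.exists_model D c hc f
  haveI := hm.compact
  haveI := hm.qs
  haveI := hm.lfp
  haveI : QuasiCompact g₀ := quasiCompact_of_compactSpace g₀
  haveI : QuasiSeparated g₀ := inferInstance
  let E := AffLim.baseChange D i g₀
  let cE := AffLim.baseChangeCone D c i g₀
  let e : X ≅ cE.pt := hm.isPullback.isoPullback
  let t : E ⟶ (Functor.const (Over i)).obj (D.obj i) :=
    { app := fun k => pullback.fst g₀ (D.map k.hom) ≫ g₀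
      naturality := fun k l a => by simp [E, AffLim.baseChange, pullback.map] }
  haveI : ∀ k, CompactSpace (E.obj k) := fun k =>
    QuasiCompact.compactSpace_of_compactSpace (pullback.snd g₀ (D.map k.hom))
  haveI : ∀ k, QuasiSeparatedSpace (E.obj k) := fun k =>
    quasiSeparatedSpace_of_quasiSeparated (pullback.snd g₀ (D.map k.hom))
  haveI : ∀ {k l : Over i} (a : k ⟶ l), IsAffineHom (E.map a) := fun {k l} a => inferInstance
  obtain ⟨k, h, hh, hhg⟩ := Scheme.exists_π_app_comp_eq_of_locallyOfFinitePresentation E t g₀ cE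
    (AffLim.nonempty_isLimit_baseChangeCone D c hc i g₀).some (e.inv ≫ g ≫ q) (by
      ext k
      show cE.π.app k ≫ pullback.fst g₀ (D.map k.hom) ≫ g₀ = (e.inv ≫ g ≫ q) ≫ g₀
      rw [← cancel_epi e.hom, Category.assoc, Category.assoc, Iso.hom_inv_id_assoc, hm.isPullback.w,
        ← Category.assoc g f, hg, ← hm.isPullback.w]
      simp [e, cE, AffLim.baseChangeCone, pullback.map])
  let gk : pullback g₀ (D.map k.hom) ⟶ pullback g₀ (D.map k.hom) :=
    pullback.lift h (pullback.snd _ _) (by rw [hhg]; exact pullback.condition)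
  have hgk : gk ≫ pullback.snd g₀ (D.map k.hom) = pullback.snd g₀ (D.map k.hom) := pullback.lift_snd _ _ _
  let qk : X ⟶ pullback g₀ (D.map k.hom) := pullback.lift q (f ≫ c.π.app k.left)
    (by rw [Category.assoc, c.w]; exact hm.isPullback.w)
  have hqk : IsPullback qk f (pullback.snd g₀ (D.map k.hom)) (c.π.app k.left) :=
    IsPullback.of_right (by rw [pullback.lift_fst, c.w]; exact hm.isPullback) (pullback.lift_snd _ _ _)
      (IsPullback.of_hasPullback _ _)
  have hek : e.hom ≫ cE.π.app k = qk := by
    apply pullback.hom_ext <;> simp [qk, e, cE, AffLim.baseChangeCone, pullback.map]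
  have hsq : qk ≫ gk = g ≫ qk := by
    apply pullback.hom_ext
    · have h' := congrArg (e.hom ≫ ·) hh
      simp only [Iso.hom_inv_id_assoc] at h'
      rw [← Category.assoc, hek] at h'
      rw [Category.assoc, pullback.lift_fst, h', Category.assoc, pullback.lift_fst]
    · simp only [qk, gk, Category.assoc, pullback.lift_snd]
      rw [← Category.assoc, hg]
  have hX : IsPullback qk g gk qk :=
    IsPullback.of_bot (by rw [hg, hgk]; exact hqk) hsq hqk
  haveI : LocallyOfFinitePresentation (gk ≫ pullback.snd g₀ (D.map k.hom)) := by rw [hgk]; infer_instance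
  haveI : LocallyOfFinitePresentation gk :=
    ASp.locallyOfFinitePresentation_of_comp _ (pullback.snd g₀ (D.map k.hom)) ‹_› inferInstance
  haveI : CompactSpace ↥(pullback g₀ (D.map k.hom)) :=
    QuasiCompact.compactSpace_of_compactSpace (pullback.snd g₀ (D.map k.hom))
  haveI : QuasiSeparatedSpace ↥(pullback g₀ (D.map k.hom)) :=
    quasiSeparatedSpace_of_quasiSeparated (pullback.snd g₀ (D.map k.hom))
  obtain ⟨l, hl⟩ := AffLim.exists_universallyInjective_baseChange D c hc k.left gk (pullback.snd g₀ (D.map k.hom)) hqk hX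
  let M := (AffLim.baseChangeMap D k.left gk (pullback.snd g₀ (D.map k.hom))).app l
  haveI : UniversallyInjective M := hl
  let e' : (AffLim.baseChange D k.left (pullback.snd g₀ (D.map k.hom))).obj l ≅
      (AffLim.baseChange D k.left (gk ≫ pullback.snd g₀ (D.map k.hom))).obj l :=
    pullback.congrHom hgk.symm rfl
  haveI hM : IsFinite M ∧ Surjective M := by
    let Y := pullback (pullback.snd g₀ (D.map k.hom)) (D.map l.hom)
    let p : Y ⟶ D.obj l.left := pullback.snd _ _
    haveI : CompactSpace Y := QuasiCompact.compactSpace_of_compactSpace p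
    haveI : LocallyOfFiniteType (IsTerminal.from specULiftZIsTerminal Y) := by
      let S := l.left.unop.1
      let j : D.obj l.left ⟶ Spec (CommRingCat.of (ULift.{u} ℤ)) :=
        Spec.map (CommRingCat.ofHom ((algebraMap ℤ S).comp ULift.ringEquiv.toRingHom))
      haveI : LocallyOfFiniteType j := by
        rw [HasRingHomProperty.Spec_iff (P := @LocallyOfFiniteType)]
        exact (RingHom.finiteType_algebraMap.2 (FPModelLib.finiteType_zSys A l.left)).comp
          (RingHom.FiniteType.of_surjective _ ULift.ringEquiv.surjective)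
      rw [IsTerminal.hom_ext specULiftZIsTerminal (IsTerminal.from specULiftZIsTerminal Y) (p ≫ j)]
      infer_instance
    haveI : UniversallyInjective (e'.hom ≫ M) :=
      MorphismProperty.comp_mem (W := @UniversallyInjective) _ _ inferInstance ‹_›
    haveI : QuasiSeparatedSpace Y := quasiSeparatedSpace_of_quasiSeparated p
    have h1 : IsFinite (e'.hom ≫ M) := isFinite_endo (X := Y) (e'.hom ≫ M)
    have h2 : Surjective (e'.hom ≫ M) :=
      ⟨surjective_of_injective (X := Y) (e'.hom ≫ M) (e'.hom ≫ M).injective⟩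
    exact ⟨(MorphismProperty.cancel_left_of_respectsIso (P := @IsFinite) e'.hom M).1 h1,
      (MorphismProperty.cancel_left_of_respectsIso (P := @Surjective) e'.hom M).1 h2⟩
  exact ⟨(AffLim.prop_stage_limit D c k.left gk (pullback.snd g₀ (D.map k.hom)) @IsFinite l hqk hX).2
      (MorphismProperty.pullback_snd (P := @IsFinite) _ _ hM.1),
    (AffLim.prop_stage_limit D c k.left gk (pullback.snd g₀ (D.map k.hom)) @Surjective l hqk hX).2
      (MorphismProperty.pullback_snd (P := @Surjective) _ _ hM.2)⟩

theorem finite_surjective {X S : Scheme.{u}} (f : X ⟶ S)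
    [LocallyOfFinitePresentation f] [QuasiCompact f] [QuasiSeparated f]
    (g : X ⟶ X) (hg : g ≫ f = f) [UniversallyInjective g] : IsFinite g ∧ Surjective g := by
  have hcov : iSup (fun U : S.affineOpens => f ⁻¹ᵁ U.1) = ⊤ := by
    rw [← Scheme.Hom.preimage_iSup, iSup_affineOpens_eq_top S]
    rfl
  suffices key : ∀ U : S.affineOpens, IsFinite (g ∣_ (f ⁻¹ᵁ U.1)) ∧ Surjective (g ∣_ (f ⁻¹ᵁ U.1)) from
    ⟨(IsZariskiLocalAtTarget.iff_of_iSup_eq_top (P := @IsFinite) _ hcov).2 fun U => (key U).1,
      (IsZariskiLocalAtTarget.iff_of_iSup_eq_top (P := @Surjective) _ hcov).2 fun U => (key U).2⟩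
  intro U
  have he : g ⁻¹ᵁ (f ⁻¹ᵁ U.1) = f ⁻¹ᵁ U.1 := by rw [← Scheme.Hom.comp_preimage, hg]
  haveI : UniversallyInjective (g ∣_ (f ⁻¹ᵁ U.1)) :=
    MorphismProperty.of_isPullback (P := @UniversallyInjective)
      (isPullback_morphismRestrict g (f ⁻¹ᵁ U.1)).flip ‹UniversallyInjective g›
  let h : (f ⁻¹ᵁ U.1).toScheme ⟶ (f ⁻¹ᵁ U.1).toScheme := (X.isoOfEq he).inv ≫ g ∣_ (f ⁻¹ᵁ U.1)
  haveI : UniversallyInjective h :=
    MorphismProperty.comp_mem (W := @UniversallyInjective) _ _ inferInstance ‹_›
  let f' : (f ⁻¹ᵁ U.1).toScheme ⟶ Spec Γ(S, U.1) := (f ∣_ U.1) ≫ U.2.isoSpec.hom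
  have hf' : h ≫ f' = f' := by
    suffices h ≫ f ∣_ U.1 = f ∣_ U.1 by rw [← Category.assoc, this]
    rw [← cancel_mono U.1.ι]
    simp only [h, Category.assoc, morphismRestrict_ι]
    rw [← Category.assoc (g ∣_ _), morphismRestrict_ι, Category.assoc, hg, Scheme.isoOfEq_inv_ι_assoc]
  obtain ⟨h1, h2⟩ := finite_surjective_affine f' h hf'
  exact ⟨(MorphismProperty.cancel_left_of_respectsIso (P := @IsFinite) (X.isoOfEq he).inv _).1 h1,
    (MorphismProperty.cancel_left_of_respectsIso (P := @Surjective) (X.isoOfEq he).inv _).1 h2⟩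

end Groth.Agent.UHEndoLib
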