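import Groth.Agent.NormalSch.Birational

/-!
# Purely inseparable integral morphisms to normal schemes are injective
-/

set_option autoImplicit false
set_option backward.isDefEq.respectTransparency false
set_option linter.style.haveILetI false

universe u

open CategoryTheory AlgebraicGeometry TopologicalSpace Opposite

namespace Groth.Agent.UHEndoLib

/-- An integral dominant morphism to a normal scheme with purely inseparable extension of function
fields is injective. -/
theorem injective_of_integral_normal {W Y : Scheme.{u}} [IsIntegral W] [IsIntegral Y]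
    (hY : Pi1.IsNormalScheme Y) (h : W ⟶ Y) [IsIntegralHom h] (hgen : h (genericPoint W) = genericPoint Y)
    (hpi : (h.residueFieldMap (genericPoint W)).hom.IsPurelyInseparable) :
    Function.Injective ⇑h := by
  intro w w' hww
  obtain ⟨_, ⟨U, hU, rfl⟩, hwU, -⟩ :=
    Y.isBasis_affineOpens.exists_subset_of_mem_open (Set.mem_univ (h w)) isOpen_univ
  have hw'U : h w' ∈ U := hww ▸ hwU
  haveI : Nonempty U := ⟨⟨h w, hwU⟩⟩
  haveI : Nonempty (h ⁻¹ᵁ U) := ⟨⟨w, hwU⟩⟩
  have hV : IsAffineOpen (h ⁻¹ᵁ U) := hU.preimage h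
  let ψ : Y.functionField ⟶ W.functionField :=
    Y.presheaf.stalkSpecializes (specializes_of_eq hgen) ≫ h.stalkMap (genericPoint W)
  have hsq : ∀ a, W.germToFunctionField (h ⁻¹ᵁ U) (h.app U a) = ψ (Y.germToFunctionField U a) := by
    intro a
    change _ = h.stalkMap (genericPoint W) (Y.presheaf.stalkSpecializes (specializes_of_eq hgen)
      (Y.presheaf.germ U _ (NormalSch.genericPoint_mem U) a))
    rw [show Y.presheaf.stalkSpecializes (specializes_of_eq hgen)
          (Y.presheaf.germ U _ (NormalSch.genericPoint_mem U) a) =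
        Y.presheaf.germ U (h (genericPoint W)) (hgen ▸ NormalSch.genericPoint_mem U) a from
      congr($(Y.presheaf.germ_stalkSpecializes (NormalSch.genericPoint_mem U) (specializes_of_eq hgen)) a),
      Scheme.Hom.germ_stalkMap_apply]
  have key : ∀ b : Γ(W, h ⁻¹ᵁ U), ∃ (N : ℕ) (s : Γ(Y, U)), 0 < N ∧ b ^ N = h.app U s := by
    intro b
    algebraize [(h.residueFieldMap (genericPoint W)).hom]
    let q := ringExpChar (Y.residueField (h (genericPoint W)))
    obtain ⟨n, c, hc⟩ := IsPurelyInseparable.pow_mem (Y.residueField (h (genericPoint W))) q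
      (W.residue _ (W.germToFunctionField (h ⁻¹ᵁ U) b))
    obtain ⟨c, rfl⟩ := Y.residue_surjective _ c
    have hpos : 0 < q ^ n := pow_pos (expChar_pos (Y.residueField (h (genericPoint W))) q) n
    have hinj : Function.Injective (W.residue (genericPoint W)) :=
      RingHom.injective (R := W.functionField) (W.residue (genericPoint W)).hom
    have h1 : h.stalkMap (genericPoint W) c = W.germToFunctionField (h ⁻¹ᵁ U) b ^ (q ^ n) := by
      apply hinj
      rw [map_pow, ← hc]
      exact congr($(Scheme.residue_residueFieldMap h (genericPoint W)) c).symm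
    haveI : IsIso (Y.presheaf.stalkSpecializes (specializes_of_eq hgen)) :=
      (TopCat.Presheaf.stalkCongr Y.presheaf (.of_eq hgen)).isIso_inv
    obtain ⟨c, rfl⟩ := ((ConcreteCategory.isIso_iff_bijective
      (Y.presheaf.stalkSpecializes (specializes_of_eq hgen))).mp inferInstance).2 c
    have hint : (h.app U).hom.IsIntegralElem (b ^ (q ^ n)) := IsIntegralHom.isIntegral_app h U hU _
    obtain ⟨p, hpm, hp⟩ := hint
    have hc' : IsIntegral Γ(Y, U) c := by
      refine ⟨p, hpm, RingHom.injective (R := Y.functionField) ψ.hom ?_⟩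
      rw [map_zero, Polynomial.hom_eval₂, show ψ.hom c = (W.germToFunctionField (h ⁻¹ᵁ U)).hom (b ^ (q ^ n)) from
          h1.trans (map_pow _ _ _).symm,
        show ψ.hom.comp (algebraMap Γ(Y, U) Y.functionField) =
          (W.germToFunctionField (h ⁻¹ᵁ U)).hom.comp (h.app U).hom from RingHom.ext fun a => (hsq a).symm,
        ← Polynomial.hom_eval₂, hp, map_zero]
    obtain ⟨s, hs⟩ := NormalSch.exists_section_of_isIntegral hY U c hc'
    refine ⟨q ^ n, s, hpos, W.germToFunctionField_injective _ ?_⟩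
    rw [hsq, hs, map_pow]
    exact h1.symm
  have keyc : ∀ (z : W) (hz : z ∈ h ⁻¹ᵁ U), PrimeSpectrum.comap (h.app U).hom (hV.primeIdealOf ⟨z, hz⟩) =
      hU.primeIdealOf ⟨h z, hz⟩ := by
    intro z hz
    refine hU.fromSpec.isOpenEmbedding.injective ?_
    rw [hU.fromSpec_primeIdealOf]
    have hsq' := congr($(IsAffineOpen.SpecMap_appLE_fromSpec h hU hV le_rfl) (hV.primeIdealOf ⟨z, hz⟩))
    rw [Scheme.Hom.comp_apply, Scheme.Hom.comp_apply, hV.fromSpec_primeIdealOf] at hsq'
    rw [Scheme.Hom.app_eq_appLE]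
    exact hsq'
  let P := hV.primeIdealOf ⟨w, hwU⟩
  let P' := hV.primeIdealOf ⟨w', hw'U⟩
  have hPP : PrimeSpectrum.comap (h.app U).hom P = PrimeSpectrum.comap (h.app U).hom P' := by
    rw [keyc w hwU, keyc w' hw'U]
    exact congrArg _ (Subtype.ext hww)
  have hmem : ∀ b, b ∈ P.asIdeal ↔ b ∈ P'.asIdeal := fun b => by
    obtain ⟨N, s, hN, hb⟩ := key b
    have h0 : ∀ Q : PrimeSpectrum Γ(W, h ⁻¹ᵁ U), b ∈ Q.asIdeal ↔
        s ∈ (PrimeSpectrum.comap (h.app U).hom Q).asIdeal := fun Q => by
      refine (Ideal.IsPrime.pow_mem_iff_mem Q.2 N hN).symm.trans ?_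
      rw [hb]
      rfl
    rw [h0, h0, hPP]
  have hPeq : P = P' := PrimeSpectrum.ext (Ideal.ext hmem)
  have := congrArg hV.fromSpec hPeq
  rwa [hV.fromSpec_primeIdealOf, hV.fromSpec_primeIdealOf] at this

end Groth.Agent.UHEndoLib
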