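import Groth.Agent.UHEndoLib.Surj
import Groth.Agent.UHEndoLib.Radicial
import Groth.Agent.NagNorm.Basic
import Groth.Agent.NormRelLib.Main
import Groth.Agent.S0566
import Groth.Agent.S2656

/-!
# Universally injective endomorphisms of schemes of finite type over `ℤ` are finite
-/

set_option autoImplicit false
set_option backward.isDefEq.respectTransparency false
set_option linter.style.haveILetI false

universe u

open CategoryTheory CategoryTheory.Limits AlgebraicGeometry Topology

noncomputable section

namespace Groth.Agent.UHEndoLib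

theorem pi_middle {F E E' K : Type u} [Field F] [Field E] [Field E'] [Field K] {ν : F →+* E} {a : E →+* E'}
    {r : E' →+* K} (h : (r.comp (a.comp ν)).IsPurelyInseparable) : a.IsPurelyInseparable := by
  letI : Algebra F E := ν.toAlgebra
  letI : Algebra E E' := a.toAlgebra
  letI : Algebra E' K := r.toAlgebra
  letI : Algebra E K := (r.comp a).toAlgebra
  letI : Algebra F K := (r.comp (a.comp ν)).toAlgebra
  haveI : IsScalarTower F E K := IsScalarTower.of_algebraMap_eq' rfl
  haveI : IsScalarTower E E' K := IsScalarTower.of_algebraMap_eq' rfl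
  haveI : IsPurelyInseparable F K := h
  haveI : IsPurelyInseparable E K := IsPurelyInseparable.tower_top F E K
  exact (IsPurelyInseparable.tower_bot E E' K : IsPurelyInseparable E E')

variable {X : Scheme.{u}} [CompactSpace X]
  [hX : LocallyOfFiniteType (IsTerminal.from specULiftZIsTerminal X)] [QuasiSeparatedSpace X]

/-- The normalization of the closure of a point. -/
def N (η : X) : Scheme.{u} := (X.fromSpecResidueField η).normalization

/-- The map from the normalization of the closure of a point. -/
def ν (η : X) : N η ⟶ X := (X.fromSpecResidueField η).fromNormalization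

/-- The generic point of the normalization. -/
def pt (η : X) : Spec (X.residueField η) := IsLocalRing.closedPoint _

instance isIntegral_N (η : X) : IsIntegral (N η) := inferInstanceAs (IsIntegral (X.fromSpecResidueField η).normalization)

instance isIntegralHom_ν (η : X) : IsIntegralHom (ν η) :=
  inferInstanceAs (IsIntegralHom (X.fromSpecResidueField η).fromNormalization)

omit [CompactSpace X] hX in
theorem toNorm_pt (η : X) :
    (X.fromSpecResidueField η).toNormalization (pt η) = genericPoint (N η) := by
  refine (IsGenericPoint.eq (genericPoint_spec (N η)) ?_).symm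
  have h := (X.fromSpecResidueField η).toNormalization.denseRange.closure_range
  rwa [show Set.range (X.fromSpecResidueField η).toNormalization =
    {(X.fromSpecResidueField η).toNormalization (pt η)} from ?_] at h
  haveI : Subsingleton (PrimeSpectrum (X.residueField η)) := inferInstance
  ext z
  constructor
  · rintro ⟨p, rfl⟩
    exact congrArg (X.fromSpecResidueField η).toNormalization
      (Subsingleton.elim (α := PrimeSpectrum (X.residueField η)) p _)
  · rintro rfl; exact ⟨_, rfl⟩

omit [CompactSpace X] hX in
theorem ν_generic (η : X) : ν η (genericPoint (N η)) = η := by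
  rw [← toNorm_pt η]
  show ((X.fromSpecResidueField η).toNormalization ≫ (X.fromSpecResidueField η).fromNormalization) (pt η) = η
  rw [Scheme.Hom.toNormalization_fromNormalization]
  exact X.fromSpecResidueField_apply η (pt η)

omit [CompactSpace X] hX in
theorem isNormal_N (η : X) : Pi1.IsNormalScheme (N η) :=
  NormRelLib.isNormalScheme (X.fromSpecResidueField η)
    (NormalSch.isNormalScheme_of_affine fun U _ hU => by
      haveI : Subsingleton ↥(Spec (X.residueField η)) := inferInstanceAs (Subsingleton (PrimeSpectrum (X.residueField η)))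
      have htop : U = ⊤ := by
        obtain ⟨x⟩ := ‹Nonempty U›
        exact TopologicalSpace.Opens.ext (Set.eq_univ_of_forall fun y => Subsingleton.elim x.1 y ▸ x.2)
      subst htop
      exact IsIntegrallyClosed.of_equiv (Scheme.ΓSpecIso (X.residueField η)).commRingCatIsoToRingEquiv.symm)
    (locallyFinite_of_finite _)

include hX in
theorem isNagata_sections (U : X.affineOpens) : CAlg.IsNagata Γ(X, U) := by
  have hN : CAlg.IsNagata (ULift.{u} ℤ) := by
    haveI : IsPrincipalIdealRing (ULift.{u} ℤ) :=
      IsPrincipalIdealRing.of_surjective (ULift.ringEquiv (R := ℤ)).symm.toRingHom (ULift.ringEquiv (R := ℤ)).symm.surjective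
    haveI : IsDomain (ULift.{u} ℤ) := (ULift.ringEquiv (R := ℤ)).toMulEquiv.isDomain
    haveI : CharZero (ULift.{u} ℤ) := charZero_of_injective_ringHom
      (f := (ULift.ringEquiv (R := ℤ)).symm.toRingHom) (ULift.ringEquiv (R := ℤ)).symm.injective
    exact S2656.result _
  let t := IsTerminal.from specULiftZIsTerminal X
  let φ : ULift.{u} ℤ →+* Γ(X, U) := (t.appLE ⊤ U.1 le_top).hom.comp
    (Scheme.ΓSpecIso (CommRingCat.of (ULift.{u} ℤ))).inv.hom
  have hφ : φ.FiniteType :=
    (t.finiteType_appLE (isAffineOpen_top _) U.2 le_top).comp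
      (RingHom.FiniteType.of_surjective _
        (Scheme.ΓSpecIso (CommRingCat.of (ULift.{u} ℤ))).symm.commRingCatIsoToRingEquiv.surjective)
  letI := φ.toAlgebra
  haveI : Algebra.FiniteType (ULift.{u} ℤ) Γ(X, U) := hφ
  exact S0566.result _ hN _

include hX in
theorem isFinite_ν (η : X) : IsFinite (ν η) := by
  refine NagNorm.isFinite_fromNormalization (X.fromSpecResidueField η) isNagata_sections
    (locallyFinite_of_finite _) fun x _ => RingHom.FiniteType.essFiniteType
      (RingHom.FiniteType.of_surjective _ ?_)
  intro a
  obtain ⟨b, rfl⟩ := (Spec (X.residueField η)).residue_surjective x a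
  obtain ⟨c, rfl⟩ := (X.fromSpecResidueField η).stalkMap_surjective x b
  exact ⟨X.residue _ c, congr($(Scheme.residue_residueFieldMap (X.fromSpecResidueField η) x) c)⟩

include hX in
theorem compact_N (η : X) : CompactSpace (N η) ∧ QuasiSeparatedSpace (N η) ∧
    LocallyOfFiniteType (IsTerminal.from specULiftZIsTerminal (N η)) := by
  haveI := isFinite_ν η
  refine ⟨QuasiCompact.compactSpace_of_compactSpace (ν η), quasiSeparatedSpace_of_quasiSeparated (ν η), ?_⟩
  rw [IsTerminal.hom_ext specULiftZIsTerminal (IsTerminal.from specULiftZIsTerminal (N η))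
    (ν η ≫ IsTerminal.from specULiftZIsTerminal X)]
  infer_instance

omit [CompactSpace X] hX in
theorem eq_generic {η : X} {z : N η} (hz : ν η z = η) : z = genericPoint (N η) :=
  (NormalSch.eq_of_specializes_of_eq (ν η) ((genericPoint_spec (N η)).specializes trivial)
    ((ν_generic η).trans hz.symm)).symm

variable (g : X ⟶ X) [UniversallyInjective g]

include hX in
theorem exists_lift (η : X) : ∃ a : N η ⟶ N (g η), a ≫ ν (g η) = ν η ≫ g ∧ Function.Injective ⇑a ∧
    (Function.Surjective ⇑a → UniversallyClosed a) := by
  haveI := locallyOfFiniteType_endo g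
  haveI := isFinite_ν η
  haveI := isFinite_ν (g η)
  haveI := (compact_N η).1
  haveI := (compact_N (g η)).2.1
  let p := X.fromSpecResidueField η
  let q : Spec (X.residueField η) ⟶ N (g η) :=
    Spec.map (g.residueFieldMap η) ≫ (X.fromSpecResidueField (g η)).toNormalization
  have hq : q ≫ ν (g η) = p ≫ g := by
    simp only [q, ν, Category.assoc, Scheme.Hom.toNormalization_fromNormalization]
    exact g.SpecMap_residueFieldMap_fromSpecResidueField η
  haveI : IsIntegralHom (pullback.snd (ν (g η)) g) := MorphismProperty.pullback_snd _ _ (isIntegralHom_ν (g η))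
  let d : N η ⟶ pullback (ν (g η)) g :=
    p.normalizationDesc (pullback.lift q p hq) (pullback.snd _ _) (pullback.lift_snd _ _ _).symm
  have hd : d ≫ pullback.snd _ _ = ν η := p.normalizationDesc_comp _ _ _
  let a : N η ⟶ N (g η) := d ≫ pullback.fst _ _
  have ha : a ≫ ν (g η) = ν η ≫ g := by
    rw [← hd, Category.assoc, Category.assoc, pullback.condition]
  haveI : LocallyOfFiniteType (a ≫ ν (g η)) := by rw [ha]; infer_instance
  haveI : LocallyOfFiniteType a := locallyOfFiniteType_of_comp a (ν (g η))
  haveI : IsSeparated g := by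
    haveI : Surjective (pullback.diagonal g) := (UniversallyInjective.iff_diagonal g).1 inferInstance
    exact ⟨IsClosedImmersion.of_isPreimmersion _ (by
      rw [(pullback.diagonal g).surjective.range_eq]; exact isClosed_univ)⟩
  haveI : IsSeparated (a ≫ ν (g η)) := by rw [ha]; infer_instance
  haveI : IsSeparated a := IsSeparated.of_comp a (ν (g η))
  haveI : QuasiCompact a := quasiCompact_of_compactSpace a
  haveI : LocallyQuasiFinite (a ≫ ν (g η)) := by rw [ha]; infer_instance
  haveI : LocallyQuasiFinite a := LocallyQuasiFinite.of_comp a (ν (g η))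
  suffices hh : Function.Injective ⇑a.fromNormalization by
    refine ⟨a, ha, ?_, fun hsurj => ?_⟩
    · rw [← a.toNormalization_fromNormalization]
      exact hh.comp a.toNormalization.isOpenEmbedding.injective
    · haveI : Surjective a.toNormalization := ⟨fun w => by
        obtain ⟨z, hz⟩ := hsurj (a.fromNormalization w)
        refine ⟨z, hh ?_⟩
        rw [← Scheme.Hom.comp_apply, a.toNormalization_fromNormalization]
        exact hz⟩
      haveI : IsIso a.toNormalization :=
        isIso_of_isOpenImmersion_of_opensRange_eq_top _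
          (TopologicalSpace.Opens.ext (Surjective.surj (f := a.toNormalization)).range_eq)
      rw [← a.toNormalization_fromNormalization]
      infer_instance
  let j := a.toNormalization
  let h := a.fromNormalization
  have hj : j (genericPoint (N η)) = genericPoint a.normalization := genericPoint_eq_of_isOpenImmersion j
  have hgen : h (genericPoint a.normalization) = genericPoint (N (g η)) := by
    rw [← hj, ← Scheme.Hom.comp_apply, a.toNormalization_fromNormalization]
    refine eq_generic ?_
    rw [← Scheme.Hom.comp_apply, ha, Scheme.Hom.comp_apply, ν_generic]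
  refine injective_of_integral_normal (isNormal_N (g η)) h hgen ?_
  let m : Spec (X.residueField η) ⟶ a.normalization := p.toNormalization ≫ j
  have hm : m ≫ h ≫ ν (g η) = p ≫ g := by
    simp only [m, j, h, Category.assoc]
    rw [a.toNormalization_fromNormalization_assoc, ha]
    exact p.toNormalization_fromNormalization_assoc g
  haveI : UniversallyInjective p := inferInstance
  haveI : UniversallyInjective (m ≫ h ≫ ν (g η)) := by
    rw [hm]; exact MorphismProperty.comp_mem (W := @UniversallyInjective) p g inferInstance inferInstance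
  let F := m ≫ h ≫ ν (g η)
  have h02 : UniversallyInjective F ↔
      (Function.Injective ⇑F ∧ ∀ x, (F.residueFieldMap x).hom.IsPurelyInseparable) :=
    (tfae_universallyInjective F).out 0 2
  have hpi : ((m ≫ h ≫ ν (g η)).residueFieldMap (pt η)).hom.IsPurelyInseparable := (h02.1 ‹_›).2 (pt η)
  rw [Scheme.residueFieldMap_comp, Scheme.residueFieldMap_comp] at hpi
  have hms : m (pt η) = genericPoint a.normalization := by
    rw [show m (pt η) = j (p.toNormalization (pt η)) from rfl, toNorm_pt η]
    exact hj
  exact hms ▸ pi_middle (ν := ((ν (g η)).residueFieldMap (h (m (pt η)))).hom)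
    (a := (h.residueFieldMap (m (pt η))).hom) (r := (m.residueFieldMap (pt η)).hom) hpi

include hX in
theorem exists_iter (n : ℕ) (η : X) :
    ∃ b : N η ⟶ N ((⇑g)^[n] η), Function.Injective ⇑b := by
  induction n with
  | zero => exact ⟨𝟙 _, Function.injective_id⟩
  | succ n ih =>
    obtain ⟨b, hb⟩ := ih
    obtain ⟨a, -, ha, -⟩ := exists_lift g ((⇑g)^[n] η)
    rw [Function.iterate_succ_apply']
    exact ⟨b ≫ a, ha.comp hb⟩

include hX in
theorem exists_return {η : X} (hη : IsMaxPt η) : ∃ n, (⇑g)^[n] (g η) = η := by
  haveI := (finite_max (X := X)).to_subtype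
  let s : {x : X | IsMaxPt x} → {x : X | IsMaxPt x} := fun y => ⟨g y.1, isMaxPt_map g g.injective y.2⟩
  have hs : Function.Injective s := fun y y' h => Subtype.ext (g.injective (congrArg Subtype.val h))
  obtain ⟨k, hk, hper⟩ := hs.mem_periodicPts ⟨η, hη⟩
  have key : ∀ (m : ℕ) (y : {x : X | IsMaxPt x}), (s^[m] y).1 = (⇑g)^[m] y.1 := by
    intro m
    induction m with
    | zero => exact fun _ => rfl
    | succ m ih => exact fun y => by rw [Function.iterate_succ_apply, Function.iterate_succ_apply, ih]
  refine ⟨k - 1, ?_⟩
  rw [← Function.iterate_succ_apply, Nat.sub_one, Nat.succ_pred_eq_of_pos hk, ← key k ⟨η, hη⟩]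
  exact congrArg Subtype.val hper

include hX in
theorem universallyClosed_comp {η : X} (hη : IsMaxPt η) : UniversallyClosed (ν η ≫ g) := by
  obtain ⟨a, ha, hainj, hclosed⟩ := exists_lift g η
  haveI := isFinite_ν η
  haveI := isFinite_ν (g η)
  haveI := (compact_N η).1
  haveI := (compact_N η).2.2
  obtain ⟨n, hn⟩ := exists_return g hη
  obtain ⟨b, hb⟩ : ∃ b : N (g η) ⟶ N η, Function.Injective ⇑b := by
    have h := exists_iter g n (g η)
    rwa [hn] at h
  have hsurj : Function.Surjective ⇑a := by
    intro y
    obtain ⟨x, hx⟩ := surjective_of_injective (a ≫ b) (hb.comp hainj) (b y)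
    exact ⟨x, hb hx⟩
  haveI := hclosed hsurj
  rw [← ha]
  infer_instance

include hX in
theorem exists_max_cover (x : X) : ∃ η : X, IsMaxPt η ∧ ∃ z : N η, ν η z = x := by
  obtain ⟨η, hη⟩ := QuasiSober.sober (isIrreducible_irreducibleComponent (x := x))
    isClosed_irreducibleComponent
  refine ⟨η, fun z hz => ?_, ?_⟩
  · have h1 : closure ({η} : Set X) ⊆ closure {z} := closure_minimal
      (Set.singleton_subset_iff.2 (specializes_iff_mem_closure.1 hz)) isClosed_closure
    have h2 : closure ({z} : Set X) ⊆ irreducibleComponent x :=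
      (irreducibleComponent_mem_irreducibleComponents x).2 isIrreducible_singleton.closure (hη.def ▸ h1)
    exact (inseparable_iff_closure_eq.2 (le_antisymm (h2.trans hη.def.ge) h1)).eq
  · haveI := isFinite_ν η
    have hcl : IsClosed (Set.range ⇑(ν η)) := (ν η).isClosedMap.isClosed_range
    have hx : x ∈ closure ({η} : Set X) := hη.def.symm ▸ mem_irreducibleComponent
    have hsub : ({η} : Set X) ⊆ Set.range ⇑(ν η) := Set.singleton_subset_iff.2 ⟨_, ν_generic η⟩
    exact closure_minimal hsub hcl hx

include hX in
/-- A universally injective endomorphism of a scheme of finite type over `ℤ` is finite. -/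
theorem isFinite_endo : IsFinite g := by
  haveI := locallyOfFiniteType_endo g
  haveI : IsSeparated g := by
    haveI : Surjective (pullback.diagonal g) := (UniversallyInjective.iff_diagonal g).1 inferInstance
    exact ⟨IsClosedImmersion.of_isPreimmersion _ (by
      rw [(pullback.diagonal g).surjective.range_eq]; exact isClosed_univ)⟩
  haveI : QuasiCompact g := inferInstance
  haveI : UniversallyClosed g := by
    refine ⟨fun X' Y' i₁ i₂ g' H C hC => ?_⟩
    haveI := (finite_max (X := X)).to_subtype
    let η' : {x : X | IsMaxPt x} → X := Subtype.val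
    have hcl : ∀ e : {x : X | IsMaxPt x}, IsClosed
        (⇑g' '' (⇑(pullback.snd (ν (η' e)) i₁) '' (⇑(pullback.snd (ν (η' e)) i₁) ⁻¹' C))) := fun e => by
      haveI := universallyClosed_comp g e.2
      have h := UniversallyClosed.universally_isClosedMap (f := ν (η' e) ≫ g) _ _ _
        ((IsPullback.of_hasPullback (ν (η' e)) i₁).flip.paste_horiz H)
      rw [← Set.image_comp]
      exact h _ (hC.preimage (Scheme.Hom.continuous _))
    have heq : ⇑g' '' C =
        ⋃ e : {x : X | IsMaxPt x}, ⇑g' '' (⇑(pullback.snd (ν (η' e)) i₁) '' (⇑(pullback.snd (ν (η' e)) i₁) ⁻¹' C)) := by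
      ext y
      constructor
      · rintro ⟨c, hc, rfl⟩
        obtain ⟨η, hη, z, hz⟩ := exists_max_cover (i₁ c)
        obtain ⟨w, hw⟩ := Scheme.Pullback.exists_preimage_pullback z c hz
        exact Set.mem_iUnion.2 ⟨⟨η, hη⟩, c, ⟨w, show _ ∈ C from hw.2.symm ▸ hc, hw.2⟩, rfl⟩
      · intro hy
        obtain ⟨e, c, ⟨w, hw, rfl⟩, rfl⟩ := Set.mem_iUnion.1 hy
        exact ⟨_, hw, rfl⟩
    rw [heq]
    exact isClosed_iUnion_of_finite hcl
  haveI : IsProper g := {}
  exact IsFinite.of_isProper_of_locallyQuasiFinite g

end Groth.Agent.UHEndoLib
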