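import Groth.Agent.MonoEndoLib.Noeth
import Groth.Agent.S7549

/-!
# Injective endomorphisms of schemes of finite type over `ℤ` are surjective
-/

set_option autoImplicit false
set_option linter.style.haveILetI false

universe u

open CategoryTheory CategoryTheory.Limits AlgebraicGeometry Topology

namespace Groth.Agent.UHEndoLib

variable {X : Scheme.{u}} [CompactSpace X]
  [hX : LocallyOfFiniteType (IsTerminal.from specULiftZIsTerminal X)]

/-- The point is maximal for specialization. -/
def IsMaxPt (x : X) : Prop := ∀ z : X, z ⤳ x → z = x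

include hX in
theorem locallyOfFiniteType_endo (g : X ⟶ X) : LocallyOfFiniteType g := by
  haveI : LocallyOfFiniteType (g ≫ IsTerminal.from specULiftZIsTerminal X) := by
    rw [IsTerminal.hom_ext specULiftZIsTerminal (g ≫ _) (IsTerminal.from specULiftZIsTerminal X)]
    exact hX
  exact locallyOfFiniteType_of_comp g (IsTerminal.from specULiftZIsTerminal X)

include hX in
theorem exists_periodic (g : X ⟶ X) (hinj : Function.Injective ⇑g) {x : X} (hx : IsClosed ({x} : Set X)) :
    ∃ k : ℕ, 0 < k ∧ (⇑g)^[k] x = x := by
  let T : Set X := {y | IsClosed ({y} : Set X) ∧ Nat.card (X.residueField y) ≤ Nat.card (X.residueField x)}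
  haveI : Finite T := (MonoEndoLib.finite_card_le _).to_subtype
  have himg : ∀ y : X, IsClosed ({y} : Set X) →
      IsClosed ({g y} : Set X) ∧ Nat.card (X.residueField (g y)) ≤ Nat.card (X.residueField y) := by
    intro y hy
    haveI := ((S4886.result X).1 y).1 hy
    have hi : Function.Injective (g.residueFieldMap y).hom := RingHom.injective _
    haveI : Finite (X.residueField (g y)) := Finite.of_injective _ hi
    exact ⟨((S4886.result X).1 (g y)).2 inferInstance, Nat.card_le_card_of_injective _ hi⟩
  let s : T → T := fun y => ⟨g y.1, (himg y.1 y.2.1).1, (himg y.1 y.2.1).2.trans y.2.2⟩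
  have hs : Function.Injective s := fun y y' h => Subtype.ext (hinj (congrArg Subtype.val h))
  obtain ⟨k, hk, hper⟩ := hs.mem_periodicPts ⟨x, hx, le_rfl⟩
  have key : ∀ (m : ℕ) (y : T), ((s^[m] y : T) : X) = (⇑g)^[m] y.1 := by
    intro m
    induction m with
    | zero => exact fun _ => rfl
    | succ m ih => exact fun y => by rw [Function.iterate_succ_apply, Function.iterate_succ_apply, ih]
  exact ⟨k, hk, by rw [← key k ⟨x, hx, le_rfl⟩]; exact congrArg Subtype.val hper⟩

include hX in
/-- An injective endomorphism of a scheme of finite type over `ℤ` is surjective. -/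
theorem surjective_of_injective (g : X ⟶ X) (hinj : Function.Injective ⇑g) : Function.Surjective ⇑g := by
  haveI := locallyOfFiniteType_endo g
  haveI : IsLocallyNoetherian X :=
    LocallyOfFiniteType.isLocallyNoetherian (IsTerminal.from specULiftZIsTerminal X)
  haveI : IsJacobsonRing (ULift.{u} ℤ) := (isJacobsonRing_iso ULift.ringEquiv).2 inferInstance
  haveI : JacobsonSpace X := LocallyOfFiniteType.jacobsonSpace (IsTerminal.from specULiftZIsTerminal X)
  haveI : QuasiCompact g := inferInstance
  have hc : IsConstructible (Set.range ⇑g) := by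
    rw [← Set.image_univ]
    exact g.isConstructible_image IsConstructible.univ
  intro y
  refine ((S7549.result (X := X)).2.2.1 Set.univ _ IsConstructible.univ hc).1 ?_ (Set.mem_univ y)
  rintro ⟨z, hz⟩ -
  obtain ⟨k, hk, hper⟩ := exists_periodic g hinj hz
  refine ⟨(⇑g)^[k - 1] z, ?_⟩
  rw [← Function.iterate_succ_apply' g, Nat.sub_one, Nat.succ_pred_eq_of_pos hk, hper]

include hX in
theorem finite_max : {x : X | IsMaxPt x}.Finite := by
  haveI : IsLocallyNoetherian X :=
    LocallyOfFiniteType.isLocallyNoetherian (IsTerminal.from specULiftZIsTerminal X)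
  haveI : IsNoetherian X := ⟨⟩
  refine Set.Finite.of_finite_image (f := fun x : X => closure ({x} : Set X)) ?_ ?_
  · refine (TopologicalSpace.NoetherianSpace.finite_irreducibleComponents (α := ↥X)).subset ?_
    rintro _ ⟨x, hx, rfl⟩
    refine ⟨isIrreducible_singleton.closure, fun Z hZ hxZ => ?_⟩
    obtain ⟨η, hη⟩ := QuasiSober.sober hZ.closure isClosed_closure
    rw [hx η (hη.specializes (subset_closure (hxZ (subset_closure rfl))))] at hη
    exact (subset_closure (s := Z)).trans hη.def.ge
  · intro x _ y _ h
    exact (inseparable_iff_closure_eq.2 h).eq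

include hX in
/-- An injective endomorphism permutes the maximal points. -/
theorem isMaxPt_map (g : X ⟶ X) (hinj : Function.Injective ⇑g) {x : X} (hx : IsMaxPt x) : IsMaxPt (g x) := by
  classical
  have hsurj := surjective_of_injective g hinj
  have hpre : ∀ y : {x : X | IsMaxPt x}, ∃ z : {x : X | IsMaxPt x}, g z.1 = y.1 := by
    rintro ⟨y, hy⟩
    obtain ⟨z, rfl⟩ := hsurj y
    exact ⟨⟨z, fun w hw => hinj (hy (g w) (hw.map g.continuous))⟩, rfl⟩
  choose r hr using hpre
  haveI := (finite_max (X := X)).to_subtype
  have hrinj : Function.Injective r := fun a b h => Subtype.ext (by rw [← hr a, ← hr b, h])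
  obtain ⟨y, hy⟩ := Finite.surjective_of_injective hrinj ⟨x, hx⟩
  have := hr y
  rw [hy] at this
  exact this ▸ y.2

end Groth.Agent.UHEndoLib
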